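import Cfsg.Agent.H313.EPX.Eng
import Cfsg.Agent.H365.SporCheck
import Cfsg.Agent.H895.SLT.ResCard
import Cfsg.Agent.H940.EngData
import Cfsg.Agent.Prune
set_option linter.all false
prune_inst 0x7f00000000000000000000000000000000000000000000000000000000000000000000000000000000000000000000000000000000000000000000000000000000000000000000000000000000000000003fffffffffffffffffffffffffffbeffbdffffffff
open scoped Cfsg.Agent.FastGrp

/-! # S5755, the Monster: names of the simple groups of order dividing `|M|`, with `|Out|` -/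

set_option autoImplicit false
set_option maxRecDepth 100000
set_option linter.style.haveILetI false

namespace Cfsg.Agent.SP.Mon.NL

open Cfsg Cfsg.Agent.OrdDiv Cfsg.Agent.H902 Cfsg.Agent.H902.Names Cfsg.Agent.H365.SporCheck
open Cfsg.Agent.H313.EPX (ou aut_eq)
open Cfsg.Agent.H290.ElTab (numL numL_eq)

/-- the shape and the field order -/
def shp : Grp → Option (Art.Sh × ℕ)
  | .psl n q => some (.L n, q)
  | .psp n q => some (.C n, q)
  | .oodd n q => some (.C n, q)
  | .psu n q => some (.U n, q)
  | .oplus n q => some (.D n, q)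
  | .ominus n q => some (.DD n, q)
  | .g2 q => some (.G2, q)
  | .f4 q => some (.F4, q)
  | .e6 q => some (.E6, q)
  | .e7 q => some (.E7, q)
  | .e8 q => some (.E8, q)
  | .te6 q => some (.TE6, q)
  | .td4 q => some (.TD4, q)
  | .sz q => some (.Sz, q)
  | .ree q => some (.Ree, q)
  | .tf4 q => some (.TF4, q)
  | _ => none

/-- side condition of the names -/
def side : Grp → Bool
  | .alt n => Nat.ble 5 n
  | .oodd n q => Nat.ble 3 n && Nat.beq (q % 2) 1
  | _ => true

/-- `|Out|` for the names without a shape -/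
def outS : Grp → ℕ
  | .alt n => if n = 6 then 4 else 2
  | .m11 | .m23 | .m24 | .j1 | .j4 | .co1 | .co2 | .co3 | .ly | .ru | .fi23 | .th | .b | .m => 1
  | _ => 2

/-- a multiple of `|Out|` -/
def outN (g : Grp) : ℕ :=
  match shp g with
  | some (X, q) => ou X (pfOf q).1 (pfOf q).2
  | none => outS g

/-- the check of a name -/
def okN (g : Grp) : Bool :=
  side g && match shp g with
  | some (X, q) => okQ q && decide (Art.Ok X (pfOf q).1 (pfOf q).2) &&
      Nat.beq (Art.dd X q * ordN g) (q ^ Art.NN X * numL X q)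
  | none => true

theorem isLie_of {g : Grp} {X : Art.Sh} {p f : ℕ} (h : shp g = some (X, p ^ f)) (hs : side g = true) :
    IsLie g X p f := by
  cases g <;> simp only [shp, Option.some.injEq, Prod.mk.injEq, reduceCtorEq] at h <;> obtain ⟨rfl, rfl⟩ := h
  case oodd =>
    simp only [side, Bool.and_eq_true, Nat.ble_eq, Nat.beq_eq] at hs
    exact .oodd _ _ _ hs.1 (Nat.odd_iff.2 hs.2)
  all_goals constructor

theorem out_of {K T : Type*} [Group K] [Group T] (h : Nonempty (K ≃* T)) {n : ℕ} (hn : Nat.card (Out T) = n) :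
    Nat.card (Out K) ∣ n := by
  obtain ⟨e⟩ := h
  rw [card_out_congr e, hn]

theorem out_dvdS {S : Type} [Group S] [Finite S] [IsSimpleGroup S] (hna : ¬ ∀ a b : S, a * b = b * a) {g : Grp}
    (hg : shp g = none) (hs : side g = true) (h : OrdDiv.Real g S) : Nat.card (Out S) ∣ outS g := by
  have hna' : ¬ IsMulCommutative S := fun hc => hna fun a b => hc.is_comm.comm a b
  have h0 : Nat.card (Cfsg.Out S) ≠ 0 := by
    have : Finite (MulAut S) := Finite.of_injective (fun f : MulAut S => (f : S → S)) DFunLike.coe_injective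
    exact Nat.card_pos.ne'
  cases g with
  | alt n =>
    obtain ⟨e⟩ := h
    rw [side, Nat.ble_eq] at hs
    by_cases h6 : n = 6
    · subst h6
      have h1 := Cfsg.Agent.H895.SLT.card_aut_a6
      have h2 : Nat.card (alternatingGroup (Fin 6)) = 360 := by
        rw [Nat.card_eq_fintype_card]
        have := two_mul_card_alternatingGroup (α := Fin 6)
        rw [Fintype.card_perm, Fintype.card_fin] at this
        have h6 : Nat.factorial 6 = 720 := by decide
        omega
      have h3 : Nat.card (MulAut S) = 4 * Nat.card S := by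
        rw [H364.OutLie.mulaut_congr e, h1, Nat.card_congr e.toEquiv, h2]
      rw [H934.OutB.card_out_of_aut hna' h3]
      exact dvd_refl 4
    · rw [card_out_congr e, H489.card_out_alt hs h6, outS, if_neg h6]
  | tits => exact dvd_two h0 (H489.card_out_tits h)
  | m11 => exact out_of h S2060.result
  | m12 => exact out_of h S2061.result
  | m22 => exact out_of h S2062.result
  | m23 => exact out_of h S2063.result
  | m24 => exact out_of h S2064.result
  | j1 => exact out_of h S2065.result
  | j2 => exact out_of h S2066.result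
  | j3 =>
    obtain ⟨F, _, _, ω, hF, hω, h⟩ := h
    exact out_of h (S2067.result hF ω hω)
  | j4 => exact out_of h S2068.result
  | co1 => exact out_of h S2069.result
  | co2 => exact out_of h S2070.result
  | co3 => exact out_of h S2071.result
  | mcl => exact out_of h S2073.result
  | hs => exact out_of h S2072.result
  | suz => exact out_of h S2074.result
  | he => exact out_of h S2075.result
  | ru => exact out_of h S2077.result
  | on => exact out_of h S2078.result
  | ly => exact out_of h S2076.result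
  | fi22 => exact out_of h S2079.result
  | fi23 => exact out_of h S2080.result
  | fi24 => exact out_of h S2081.result
  | hn => exact out_of h S2082.result
  | th => exact out_of h S2083.result
  | b => exact out_of h S2084.result
  | m => exact out_of h S2085.result
  | _ => simp [shp] at hg

/-- **`|Aut S|` divides `outN g * ordN g`.** -/
theorem aut_dvd {S : Type} [Group S] [Finite S] [IsSimpleGroup S] (hna : ¬ ∀ a b : S, a * b = b * a) {g : Grp}
    (hok : okN g = true) (h : OrdDiv.Real g S) (hc : Nat.card S = ordN g) :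
    Nat.card (MulAut S) ∣ outN g * ordN g := by
  unfold okN at hok
  unfold outN
  rw [Bool.and_eq_true] at hok
  obtain ⟨hs, hok⟩ := hok
  rcases hg : shp g with _ | ⟨X, q⟩
  · rw [← H934.OutB.card_out_mul S (fun hc => hna fun a b => hc.is_comm.comm a b), hc]
    exact Nat.mul_dvd_mul_right (out_dvdS hna hg hs h) _
  · rw [hg] at hok
    simp only [Bool.and_eq_true, decide_eq_true_eq, Nat.beq_eq] at hok
    obtain ⟨⟨h1, h2⟩, h3⟩ := hok
    have h4 := h1
    rw [okQ, Bool.and_eq_true, beq_iff_eq, Nat.blt_eq] at h4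
    have h5 : IsLie g X (pfOf q).1 (pfOf q).2 := isLie_of (by rw [h4.1]; exact hg) hs
    show _ ∣ ou X (pfOf q).1 (pfOf q).2 * ordN g
    rw [aut_eq hna h5 h ⟨pfOf_prime h4.2, h4.2, h2, by rw [h4.1, hc, h3, numL_eq]⟩, hc]

/-- the prime factorization of `|M|` -/
def lM : List (ℕ × ℕ) := [(2, 46), (3, 20), (5, 9), (7, 6), (11, 2), (13, 3), (17, 1), (19, 1), (23, 1), (29, 1), (31, 1),
  (41, 1), (47, 1), (59, 1), (71, 1)]

/-- names, orders and multiples of `|Out|` -/
def LM : List (Grp × ℕ × ℕ) := [
    (.alt 5, 60, 2), (.alt 6, 360, 4), (.alt 7, 2520, 2), (.alt 8, 20160, 2), (.alt 9, 181440, 2),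
    (.alt 10, 1814400, 2), (.alt 11, 19958400, 2), (.alt 12, 239500800, 2), (.alt 13, 3113510400, 2),
    (.alt 14, 43589145600, 2), (.alt 15, 653837184000, 2), (.alt 16, 10461394944000, 2),
    (.alt 17, 177843714048000, 2), (.alt 18, 3201186852864000, 2), (.alt 19, 60822550204416000, 2),
    (.alt 20, 1216451004088320000, 2), (.alt 21, 25545471085854720000, 2), (.alt 22, 562000363888803840000, 2),
    (.alt 23, 12926008369442488320000, 2), (.alt 24, 310224200866619719680000, 2),
    (.alt 25, 7755605021665492992000000, 2), (.alt 26, 201645730563302817792000000, 2),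
    (.alt 27, 5444434725209176080384000000, 2), (.alt 28, 152444172305856930250752000000, 2),
    (.alt 29, 4420880996869850977271808000000, 2), (.alt 30, 132626429906095529318154240000000, 2),
    (.alt 31, 4111419327088961408862781440000000, 2), (.alt 32, 131565418466846765083609006080000000, 2),
    (.psl 3 2, 168, 2), (.psl 4 2, 20160, 2), (.psl 5 2, 9999360, 2), (.psl 6 2, 20158709760, 2),
    (.psl 2 4, 60, 2), (.psl 3 4, 20160, 12), (.psl 4 4, 987033600, 4), (.psl 5 4, 258492255436800, 4),
    (.psl 6 4, 361310134959341568000, 12), (.psl 2 8, 504, 3), (.psl 2 16, 4080, 4),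
    (.psl 3 16, 1425715200, 24), (.psl 2 32, 32736, 5), (.psl 2 64, 262080, 6), (.psl 2 1024, 1073740800, 10),
    (.psl 3 3, 5616, 2), (.psl 4 3, 6065280, 4), (.psl 5 3, 237783237120, 2), (.psl 6 3, 21032402889738240, 4),
    (.psl 2 9, 360, 4), (.psl 3 9, 42456960, 4), (.psl 4 9, 50759843097600, 16), (.psl 2 27, 9828, 6),
    (.psl 2 81, 265680, 8), (.psl 2 5, 60, 2), (.psl 3 5, 372000, 2), (.psl 4 5, 7254000000, 8),
    (.psl 2 25, 7800, 4), (.psl 3 25, 50778000000, 12), (.psl 2 125, 976500, 6), (.psl 2 7, 168, 2),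
    (.psl 3 7, 1876896, 6), (.psl 4 7, 2317591180800, 4), (.psl 2 49, 58800, 4), (.psl 2 11, 660, 2),
    (.psl 2 13, 1092, 2), (.psl 2 169, 2413320, 4), (.psl 2 17, 2448, 2), (.psl 2 19, 3420, 2),
    (.psl 2 23, 6072, 2), (.psl 2 29, 12180, 2), (.psl 2 31, 14880, 2), (.psl 2 41, 34440, 2),
    (.psl 2 47, 51888, 2), (.psl 2 59, 102660, 2), (.psl 2 71, 178920, 2), (.psp 3 2, 1451520, 1),
    (.psp 4 2, 47377612800, 1), (.psp 5 2, 24815256521932800, 1), (.psp 6 2, 208114637736580743168000, 1),
    (.psp 2 4, 979200, 4), (.psp 3 4, 4106059776000, 2), (.psp 2 8, 1056706560, 6), (.psp 2 3, 25920, 2),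
    (.psp 3 3, 4585351680, 2), (.psp 4 3, 65784756654489600, 2), (.psp 2 9, 1721606400, 4),
    (.psp 2 5, 4680000, 2), (.psp 3 5, 228501000000000, 2), (.psp 2 7, 138297600, 2), (.psu 4 2, 25920, 2),
    (.psu 5 2, 13685760, 2), (.psu 6 2, 9196830720, 6), (.psu 3 4, 62400, 4), (.psu 4 4, 1018368000, 4),
    (.psu 5 4, 53443952640000, 20), (.psu 6 4, 1120527288631296000000, 4), (.psu 3 8, 5515776, 18),
    (.psu 4 8, 34693789777920, 6), (.psu 3 3, 6048, 2), (.psu 4 3, 3265920, 8), (.psu 3 5, 126000, 6),
    (.psu 4 5, 14742000000, 4), (.oodd 3 3, 4585351680, 2), (.oodd 4 3, 65784756654489600, 2),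
    (.oodd 3 5, 228501000000000, 2), (.oplus 4 2, 174182400, 6), (.oplus 5 2, 23499295948800, 2),
    (.oplus 6 2, 50027557148216524800, 2), (.oplus 4 3, 4952179814400, 24),
    (.oplus 5 3, 1289512799941305139200, 4), (.ominus 4 2, 197406720, 2), (.ominus 5 2, 25015379558400, 2),
    (.ominus 6 2, 51615733565620224000, 2), (.ominus 4 3, 10151968619520, 4), (.g2 4, 251596800, 2),
    (.g2 3, 4245696, 2), (.g2 5, 5859000000, 1), (.f4 2, 3311126603366400, 2),
    (.te6 2, 76532479683774853939200, 6), (.td4 2, 211341312, 3), (.sz 8, 29120, 3), (.sz 32, 32537600, 5),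
    (.tits, 17971200, 2), (.m11, 7920, 1), (.m12, 95040, 2), (.m22, 443520, 2), (.m23, 10200960, 1),
    (.m24, 244823040, 1), (.j1, 175560, 1), (.j2, 604800, 2), (.j3, 50232960, 2),
    (.co1, 4157776806543360000, 1), (.co2, 42305421312000, 1), (.co3, 495766656000, 1), (.mcl, 898128000, 2),
    (.hs, 44352000, 2), (.suz, 448345497600, 2), (.he, 4030387200, 2), (.ru, 145926144000, 1),
    (.on, 460815505920, 2), (.fi22, 64561751654400, 2), (.fi23, 4089470473293004800, 1),
    (.fi24, 1255205709190661721292800, 2), (.hn, 273030912000000, 2), (.th, 90745943887872000, 1),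
    (.b, 4154781481226426191177580544000000, 1),
    (.m, 808017424794512875886459904961710757005754368000000000, 1)]

theorem lM_valid : valid lM 808017424794512875886459904961710757005754368000000000 = true := by decide +kernel

theorem cands_eq : ((cands lM 808017424794512875886459904961710757005754368000000000).map
    fun g => (g, ordN g, outN g, okN g)) = LM.map fun e => (e.1, e.2.1, e.2.2, true) := by decide +kernel

/-- **Names**: a nonabelian simple group of order dividing `|M|`. -/
theorem exists_name (B : H940.Eng.Base) {S : Type} [Group S] [Finite S] [hS : IsSimpleGroup S]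
    (hna : ¬ ∀ a b : S, a * b = b * a) (hd : Nat.card S ∣ 808017424794512875886459904961710757005754368000000000) :
    ∃ e ∈ LM, OrdDiv.Real e.1 S ∧ Nat.card S = e.2.1 ∧ Nat.card (MulAut S) ∣ e.2.2 * e.2.1 := by
  obtain ⟨g, h1, h2, h3⟩ := exists_good B.table (B.known S hS) hna lM_valid hd
  have h4 : (g, ordN g, outN g, okN g) ∈ LM.map fun e => (e.1, e.2.1, e.2.2, true) := by
    rw [← cands_eq]
    exact List.mem_map.2 ⟨g, h1, rfl⟩
  obtain ⟨e, he, h5⟩ := List.mem_map.1 h4
  simp only [Prod.mk.injEq] at h5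
  obtain ⟨k1, k2, k3, k4⟩ := h5
  refine ⟨e, he, k1 ▸ h2, h3.trans k2.symm, ?_⟩
  rw [k2, k3]
  exact aut_dvd hna k4.symm h2 h3

end Cfsg.Agent.SP.Mon.NL

private theorem dce_39403e38bfed : _root_.True := by
  try have : _root_.True := by simp only [_root_.Cfsg.Agent.SP.Mon.NL.shp.eq_8]
  try have : _root_.True := by simp only [_root_.Cfsg.Agent.SP.Mon.NL.shp.eq_4]
  try have : _root_.True := by simp only [_root_.Cfsg.Agent.SP.Mon.NL.shp.eq_10]
  try have : _root_.True := by simp only [_root_.Cfsg.Agent.SP.Mon.NL.outS.eq_8]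
  try have : _root_.True := by simp only [_root_.Cfsg.Agent.SP.Mon.NL.outS.eq_4]
  try have : _root_.True := by simp only [_root_.Cfsg.Agent.SP.Mon.NL.outS.eq_6]
  try have : _root_.True := by simp only [_root_.Cfsg.Agent.SP.Mon.NL.outS.eq_12]
  try have : _root_.True := by simp only [_root_.Cfsg.Agent.SP.Mon.NL.outS.eq_5]
  try have : _root_.True := by simp only [_root_.Cfsg.Agent.SP.Mon.NL.outS.eq_2]
  try have : _root_.True := by simp only [_root_.Cfsg.Agent.SP.Mon.NL.shp.eq_12]
  try have : _root_.True := by simp only [_root_.Cfsg.Agent.SP.Mon.NL.shp.eq_14]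
  try have : _root_.True := by simp only [_root_.Cfsg.Agent.SP.Mon.NL.outS.eq_3]
  try have : _root_.True := by simp only [_root_.Cfsg.Agent.SP.Mon.NL.side.eq_1]
  try have : _root_.True := by simp only [_root_.Cfsg.Agent.SP.Mon.NL.shp._sparseCasesOn_1.else_eq]
  try have : _root_.True := by simp only [_root_.Cfsg.Agent.SP.Mon.NL.shp.eq_17]
  try have : _root_.True := by simp only [_root_.Cfsg.Agent.SP.Mon.NL.outS.eq_14]
  try have : _root_.True := by simp only [_root_.Cfsg.Agent.SP.Mon.NL.side.eq_2]
  try have : _root_.True := by simp only [_root_.Cfsg.Agent.SP.Mon.NL.outS.eq_10]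
  try have : _root_.True := by simp only [_root_.Cfsg.Agent.SP.Mon.NL.outS.eq_9]
  try have : _root_.True := by simp only [_root_.Cfsg.Agent.SP.Mon.NL.shp.eq_13]
  try have : _root_.True := by simp only [_root_.Cfsg.Agent.SP.Mon.NL.outS.eq_7]
  try have : _root_.True := by simp only [_root_.Cfsg.Agent.SP.Mon.NL.shp.eq_16]
  try have : _root_.True := by simp only [_root_.Cfsg.Agent.SP.Mon.NL.outS.eq_15]
  try have : _root_.True := by simp only [_root_.Cfsg.Agent.SP.Mon.NL.shp.eq_9]
  try have : _root_.True := by simp only [_root_.Cfsg.Agent.SP.Mon.NL.shp.eq_7]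
  try have : _root_.True := by simp only [_root_.Cfsg.Agent.SP.Mon.NL.outS._sparseCasesOn_1.else_eq]
  try have : _root_.True := by simp only [_root_.Cfsg.Agent.SP.Mon.NL.outS.eq_13]
  try have : _root_.True := by simp only [_root_.Cfsg.Agent.SP.Mon.NL.shp.eq_5]
  try have : _root_.True := by simp only [_root_.Cfsg.Agent.SP.Mon.NL.side._sparseCasesOn_1.else_eq]
  try have : _root_.True := by simp only [_root_.Cfsg.Agent.SP.Mon.NL.outS.eq_11]
  try have : _root_.True := by simp only [_root_.Cfsg.Agent.SP.Mon.NL.shp.eq_6]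
  try have : _root_.True := by simp only [_root_.Cfsg.Agent.SP.Mon.NL.shp.eq_3]
  try have : _root_.True := by simp only [_root_.Cfsg.Agent.SP.Mon.NL.shp.eq_11]
  try have : _root_.True := by simp only [_root_.Cfsg.Agent.SP.Mon.NL.outS.eq_1]
  try have : _root_.True := by simp only [_root_.Cfsg.Agent.SP.Mon.NL.side.eq_3]
  try have : _root_.True := by simp only [_root_.Cfsg.Agent.SP.Mon.NL.shp.eq_2]
  try have : _root_.True := by simp only [_root_.Cfsg.Agent.SP.Mon.NL.shp.eq_1]
  try have : _root_.True := by simp only [_root_.Cfsg.Agent.SP.Mon.NL.outS.eq_16]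
  try have : _root_.True := by simp only [_root_.Cfsg.Agent.SP.Mon.NL.shp.eq_15]
  exact _root_.True.intro
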